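import Cfsg.Agent.H511.TC.MNum

/-! # The certificate of the sieve, part 2 (helper511) -/

set_option autoImplicit false
set_option maxRecDepth 100000
set_option Elab.async false

namespace Cfsg.Agent.H511.TC.MNum

theorem cb_23 : tst lstB 23 = true := by decide +kernel

theorem cb_20677 : tst lstB 20677 = true := by decide +kernel

theorem cb_27347 : tst lstB 27347 = true := by decide +kernel

theorem cb_55883 : tst lstB 55883 = true := by decide +kernel

end Cfsg.Agent.H511.TC.MNum
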