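import Cfsg.Agent.H511.TC.MNum

/-! # The certificate of the sieve, part 3 (helper511) -/

set_option autoImplicit false
set_option maxRecDepth 100000
set_option Elab.async false

namespace Cfsg.Agent.H511.TC.MNum

theorem cb_29 : tst lstB 29 = true := by decide +kernel

theorem cb_1927 : tst lstB 1927 = true := by decide +kernel

theorem cb_42253 : tst lstB 42253 = true := by decide +kernel

theorem cb_1373951 : tst lstB 1373951 = true := by decide +kernel

end Cfsg.Agent.H511.TC.MNum
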