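import Cfsg.Agent.H511.TC.MNum

/-! # The certificate of the sieve, part 4 (helper511) -/

set_option autoImplicit false
set_option maxRecDepth 100000
set_option Elab.async false

namespace Cfsg.Agent.H511.TC.MNum

theorem cb_31 : tst lstB 31 = true := by decide +kernel

theorem cb_1457 : tst lstB 1457 = true := by decide +kernel

theorem cb_44321 : tst lstB 44321 = true := by decide +kernel

end Cfsg.Agent.H511.TC.MNum
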