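import Cfsg.Agent.H511.TC.MNum

/-! # The certificate of the sieve, part 7 (helper511) -/

set_option autoImplicit false
set_option maxRecDepth 100000
set_option Elab.async false

namespace Cfsg.Agent.H511.TC.MNum

theorem cb_667 : tst lstB 667 = true := by decide +kernel

theorem cb_943 : tst lstB 943 = true := by decide +kernel

theorem cb_1271 : tst lstB 1271 = true := by decide +kernel

theorem cb_29233 : tst lstB 29233 = true := by decide +kernel

theorem cb_59737 : tst lstB 59737 = true := by decide +kernel

end Cfsg.Agent.H511.TC.MNum
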