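import Cfsg.Agent.H511.TC.MCert1
import Cfsg.Agent.H511.TC.MCert2
import Cfsg.Agent.H511.TC.MCert3
import Cfsg.Agent.H511.TC.MCert4
import Cfsg.Agent.H511.TC.MCert5
import Cfsg.Agent.H511.TC.MCert6
import Cfsg.Agent.H511.TC.MCert7
import Cfsg.Agent.H511.TC.MCert8

/-! # The certificate of the sieve for the degrees of the Monster prime to 59 and 71 (helper511) -/

set_option autoImplicit false
set_option maxRecDepth 100000

namespace Cfsg.Agent.H511.TC.MNum

theorem cert_all : chkF LB lst cert2 1 = true :=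
  (tst_cons (p := 47) rfl (tst_cons (p := 41) rfl (tst_cons (p := 31) rfl (tst_cons (p := 29) rfl (tst_cons (p := 23) rfl cb_1 cb_23) (tst_cons (p := 23) rfl cb_29 cb_667)) (tst_cons (p := 29) rfl (tst_cons (p := 23) rfl cb_31 cb_713) (tst_cons (p := 23) rfl cb_899 cb_20677))) (tst_cons (p := 31) rfl (tst_cons (p := 29) rfl (tst_cons (p := 23) rfl cb_41 cb_943) (tst_cons (p := 23) rfl cb_1189 cb_27347)) (tst_cons (p := 29) rfl (tst_cons (p := 23) rfl cb_1271 cb_29233) (tst_cons (p := 23) rfl cb_36859 cb_847757)))) (tst_cons (p := 41) rfl (tst_cons (p := 31) rfl (tst_cons (p := 29) rfl (tst_cons (p := 23) rfl cb_47 cb_1081) (tst_cons (p := 23) rfl cb_1363 cb_31349)) (tst_cons (p := 29) rfl (tst_cons (p := 23) rfl cb_1457 cb_33511) (tst_cons (p := 23) rfl cb_42253 cb_971819))) (tst_cons (p := 31) rfl (tst_cons (p := 29) rfl (tst_cons (p := 23) rfl cb_1927 cb_44321) (tst_cons (p := 23) rfl cb_55883 cb_1285309)) (tst_cons (p := 29) rfl (tst_cons (p := 23) rfl cb_59737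 cb_1373951) (tst_cons (p := 23) rfl cb_1732373 cb_39844579)))))

end Cfsg.Agent.H511.TC.MNum
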