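import Cfsg.Agent.H606.OreM.Tabs

/-!
# The Monster: the sieve for the degrees prime to 59 and 71 (helper511): the test

Certificate functions as in `H606/OreM` (helper606): `cert2 d` : the residues of `d` modulo 59, 71, 41, 29 or `testD` fail.
-/

set_option autoImplicit false

namespace Cfsg.Agent.H511.TC.MNum

open Cfsg.Agent.H606.OreM.Num

/-- the bound -/
def LB : ℕ := 70179535999

/-- a number is evaluated before it is used -/
def force (n : ℕ) (f : ℕ → Bool) : Bool :=
  Nat.rec (motive := fun _ => Bool) (f 0) (fun m _ => f (Nat.succ m)) n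

theorem force_eq (n : ℕ) (f : ℕ → Bool) : force n f = f n := by
  cases n <;> rfl

/-- `f` holds at `x q^i`, `i ≤ k`, as long as the value is at most `L` -/
def pwF (L q : ℕ) (k : ℕ) (f : ℕ → Bool) : ℕ → Bool :=
  Nat.rec (motive := fun _ => ℕ → Bool) f
    (fun _ ih x => Bool.rec (motive := fun _ => Bool) false
      (Bool.rec (motive := fun _ => Bool) (force (Nat.mul x q) ih) true (Nat.blt L (Nat.mul x q))) (f x)) k

theorem pwF_succ {L q k : ℕ} {f : ℕ → Bool} {x : ℕ} :
    pwF L q (k + 1) f x = (f x && (Nat.blt L (x * q) || pwF L q k f (x * q))) := by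
  show Bool.rec (motive := fun _ => Bool) false
      (Bool.rec (motive := fun _ => Bool) (force (x * q) (pwF L q k f)) true (Nat.blt L (x * q))) (f x) = _
  rw [force_eq]
  cases f x <;> cases Nat.blt L (x * q) <;> rfl

theorem pwF_spec {L q : ℕ} (hq : 0 < q) {f : ℕ → Bool} : ∀ {k x : ℕ}, pwF L q k f x = true →
    ∀ i ≤ k, x * q ^ i ≤ L → f (x * q ^ i) = true
  | 0, x, h, i, hi, _ => by
    obtain rfl : i = 0 := by omega
    rw [pow_zero, mul_one]
    exact h
  | k + 1, x, h, i, hi, hL => by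
    rw [pwF_succ, Bool.and_eq_true] at h
    rcases Nat.eq_zero_or_pos i with h0 | h0
    · rw [h0, pow_zero, mul_one]
      exact h.1
    · obtain ⟨j, rfl⟩ : ∃ j, i = j + 1 := ⟨i - 1, by omega⟩
      have e : x * q ^ (j + 1) = x * q * q ^ j := by rw [pow_succ']; ring
      rw [e] at hL ⊢
      have h1 : x * q ≤ L := le_trans (Nat.le_mul_of_pos_right _ (Nat.pow_pos hq)) hL
      rcases Bool.or_eq_true_iff.1 h.2 with h2 | h2
      · rw [Nat.blt_eq] at h2
        omega
      · exact pwF_spec hq h2 j (by omega) hL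

/-- `f` holds at all `x d ≤ L`, `d` a divisor of the product -/
def chkF (L : ℕ) (l : List (ℕ × ℕ)) (f : ℕ → Bool) : ℕ → Bool :=
  List.rec (motive := fun _ => ℕ → Bool) f (fun a _ ih => pwF L a.1 a.2 ih) l

theorem chkF_spec {L : ℕ} {f : ℕ → Bool} : ∀ {l : List (ℕ × ℕ)} {x : ℕ}, chkF L l f x = true →
    (∀ a ∈ l, a.1.Prime) → ∀ d, d ∣ (l.map fun a => a.1 ^ a.2).prod → 0 < d → x * d ≤ L → f (x * d) = true
  | [], x, h, _, d, hd, _, _ => by
    have : d = 1 := Nat.dvd_one.1 (by simpa using hd)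
    rw [this, mul_one]
    exact h
  | a :: l, x, h, hp, d, hd, h0, hL => by
    rw [List.map_cons, List.prod_cons] at hd
    obtain ⟨y, z, hy, hz, rfl⟩ := (Nat.dvd_mul).1 hd
    obtain ⟨i, hi, rfl⟩ := (Nat.dvd_prime_pow (hp a List.mem_cons_self)).1 hy
    have hz0 : 0 < z := Nat.pos_of_mul_pos_left h0
    have e : x * (a.1 ^ i * z) = x * a.1 ^ i * z := by ring
    rw [e] at hL ⊢
    have h1 := pwF_spec (hp a List.mem_cons_self).pos (h : pwF L a.1 a.2 (chkF L l f) x = true) i hi
      (le_trans (Nat.le_mul_of_pos_right _ hz0) hL)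
    exact chkF_spec h1 (fun b hb => hp b (List.mem_cons_of_mem _ hb)) z hz hz0 hL

/-- The prime factors of the order of the Monster, without 59, 71. -/
def lst : List (ℕ × ℕ) := [(47, 1), (41, 1), (31, 1), (29, 1), (23, 1), (19, 1), (17, 1), (13, 3), (11, 2), (7, 6),
  (5, 9), (3, 20), (2, 46)]

/-- the primes from 19 on -/
def lstB : List (ℕ × ℕ) := [(19, 1), (17, 1), (13, 3), (11, 2), (7, 6), (5, 9), (3, 20), (2, 46)]

/-- The test of a degree; the masks of the residues modulo 59, 71, 41, 29; doubly exceptional degrees are not tested. -/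
def cert2 (d : ℕ) : Bool :=
  Bool.rec (motive := fun _ => Bool) true
    (Bool.rec (motive := fun _ => Bool) true
      (!(bit 1099511627779 (d % 41)) || !(bit 402653191 (d % 29)) || Nat.blt d 196883 ||
        (bit 1610612736 (d % 59) && bit 103079215104 (d % 71)) || testD cA cB tabs d)
      (bit 1180591620820490518530 (d % 71)))
    (bit 288230377762324482 (d % 59))

/-- the test -/
def tst (l : List (ℕ × ℕ)) (x : ℕ) : Bool := chkF LB l cert2 x

theorem tst_cons {p : ℕ} {l : List (ℕ × ℕ)} {x y : ℕ} (hy : x * p = y) (h0 : tst l x = true) (h1 : tst l y = true) :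
    tst ((p, 1) :: l) x = true := by
  subst hy
  show pwF LB p 1 (tst l) x = true
  rw [pwF_succ, h0, Bool.true_and]
  have : pwF LB p 0 (tst l) (x * p) = tst l (x * p) := rfl
  rw [this, h1, Bool.or_true]

end Cfsg.Agent.H511.TC.MNum
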